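import Cfsg.Agent.Mrg.Omega.NO1.Fr
import Cfsg.Agent.Mrg.Omega.NO1.Alpha.Defs
import Cfsg.Agent.Mrg.Omega.NOne.Flat.QC
import Cfsg.Agent.Mrg.Omega.NOne.LemmaT

-- merged: Cfsg.Agent.Mrg.Omega.NO1.Alpha.RepM
section

/-!
# The module `V = zl S M` of a frame for the group induced by `P` (bb OMEGA #18722)

`RepM S P V Y M T Mx` is `Rep` without `O₂(Y) = 1`; it exists for every `P`-invariant elementary abelian `V ≥ V_P`
(`exists_repM`).
-/

set_option autoImplicit false
set_option linter.unusedSectionVars false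

namespace Cfsg.Agent.Omega.NO1

open Subgroup Cfsg Cfsg.Agent.ZN Cfsg.Agent.Omega.MinPar Cfsg.Agent.Omega.Frame
open Cfsg.Agent.Omega.FFBr (XX pr Abs)
open Cfsg.Agent.Omega.NoFF.LinesPlug (CC)

universe u

/-- `V` as a module for the group induced by `P`. -/
structure RepM {G : Type u} [Group G] (S P V : Subgroup G) (Y M : Type u) [Group Y] [AddCommGroup M]
    [DistribMulAction Y M] (T : Sylow 2 Y) (Mx : Subgroup Y) where
  el : M → G
  mem : ∀ m, el m ∈ V
  add : ∀ m n, el (m + n) = el m * el n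
  inj : Function.Injective el
  surj : ∀ v ∈ V, ∃ m, el m = v
  ac : P →* Y
  acs : Function.Surjective ac
  smul : ∀ (p : P) (m : M), el (ac p • m) = p * el m * (p : G)⁻¹
  two : ∀ m : M, m + m = 0
  faith : ∀ y : Y, (∀ m : M, y • m = m) → y = 1
  mem_T : ∀ y, y ∈ T ↔ ∃ t : P, (t : G) ∈ S ∧ ac t = y
  TM : (T : Subgroup Y) ≤ Mx
  Mne : Mx ≠ ⊤
  max : ∀ K : Subgroup Y, (T : Subgroup Y) ≤ K → K ≠ ⊤ → K ≤ Mx

namespace RepM

section

variable {G Y M : Type u} [Group G] {S P V : Subgroup G} [Group Y] [AddCommGroup M]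
  [DistribMulAction Y M] {T : Sylow 2 Y} {Mx : Subgroup Y} (R : RepM S P V Y M T Mx)

theorem el_zero : R.el 0 = 1 := by
  have h := R.add 0 0
  rw [add_zero] at h
  exact (mul_eq_left.1 h.symm)

theorem el_neg (m : M) : R.el (-m) = (R.el m)⁻¹ := by
  have h := R.add (-m) m
  rw [neg_add_cancel, R.el_zero] at h
  exact (inv_eq_of_mul_eq_one_left h.symm).symm

theorem el_eq_one {m : M} : R.el m = 1 ↔ m = 0 := by
  rw [← R.el_zero]
  exact R.inj.eq_iff

theorem el_sq (m : M) : R.el m * R.el m = 1 := by rw [← R.add, R.two, R.el_zero]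

theorem el_inv (m : M) : (R.el m)⁻¹ = R.el m := inv_eq_of_mul_eq_one_right (R.el_sq m)

theorem el_comm (m n : M) : R.el m * R.el n = R.el n * R.el m := by rw [← R.add, add_comm, R.add]

/-- the subgroup of the module -/
def ag (B : Subgroup G) : AddSubgroup M where
  carrier := {m | R.el m ∈ B}
  zero_mem' := by
    change R.el 0 ∈ B
    rw [R.el_zero]
    exact B.one_mem
  add_mem' := fun {a b} ha hb => by
    change R.el (a + b) ∈ B
    rw [R.add]
    exact B.mul_mem ha hb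
  neg_mem' := fun {a} ha => by
    change R.el (-a) ∈ B
    rw [R.el_neg]
    exact B.inv_mem ha

theorem mem_ag {B : Subgroup G} {m : M} : m ∈ R.ag B ↔ R.el m ∈ B := Iff.rfl

/-- the image in `Y` of a subgroup of `G` -/
def im (X : Subgroup G) : Subgroup Y := (X.subgroupOf P).map R.ac

theorem mem_im {X : Subgroup G} {y : Y} : y ∈ R.im X ↔ ∃ p : P, (p : G) ∈ X ∧ R.ac p = y := Iff.rfl

theorem mem_im' {X : Subgroup G} {y : Y} : y ∈ R.im X ↔ ∃ (p : G) (hp : p ∈ P), p ∈ X ∧ R.ac ⟨p, hp⟩ = y :=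
  ⟨fun ⟨p, h1, h2⟩ => ⟨p, p.2, h1, h2⟩, fun ⟨p, hp, h1, h2⟩ => ⟨⟨p, hp⟩, h1, h2⟩⟩

theorem im_mono {X X' : Subgroup G} (h : X ≤ X') : R.im X ≤ R.im X' := by
  rintro _ ⟨p, hp, rfl⟩
  exact ⟨p, h hp, rfl⟩

theorem im_isPGroup {X : Subgroup G} (hX : IsPGroup 2 X) : IsPGroup 2 (R.im X) := by
  rintro ⟨_, p, hp, rfl⟩
  obtain ⟨k, hk⟩ := hX ⟨p, hp⟩
  refine ⟨k, Subtype.ext ?_⟩
  have h1 : p ^ 2 ^ k = 1 := Subtype.ext (show (p : G) ^ 2 ^ k = 1 from congrArg Subtype.val hk)
  change R.ac p ^ 2 ^ k = 1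
  rw [← map_pow, h1, map_one]

theorem im_le_T {X : Subgroup G} (hX : X ≤ S) : R.im X ≤ T := by
  rintro _ ⟨p, hp, rfl⟩
  exact (R.mem_T _).2 ⟨p, hX hp, rfl⟩

include R in
theorem faithfulSMul : FaithfulSMul Y M where
  eq_of_smul_eq_smul := by
    intro a b h
    have h1 : b⁻¹ * a = 1 := R.faith _ fun m => by rw [mul_smul, h m, inv_smul_smul]
    exact (inv_mul_eq_one.1 h1).symm

include R in
theorem ext_y {y y' : Y} (h : ∀ m : M, y • m = y' • m) : y = y' := by
  have h1 : y'⁻¹ * y = 1 := R.faith _ fun m => by rw [mul_smul, h, inv_smul_smul]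
  exact (inv_mul_eq_one.1 h1).symm

include R in
theorem finite [Finite G] : Finite M := Finite.of_injective R.el R.inj

include R in
theorem finiteY [Finite G] : Finite Y := Finite.of_surjective R.ac R.acs

theorem ac_eq_one {p : P} : R.ac p = 1 ↔ (p : G) ∈ centralizer (V : Set G) := by
  constructor
  · intro h
    rw [mem_centralizer_iff]
    intro v hv
    obtain ⟨m, rfl⟩ := R.surj v hv
    have h1 := R.smul p m
    rw [h, one_smul] at h1
    calc R.el m * p = (p * R.el m * (p : G)⁻¹) * p := by rw [← h1]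
      _ = p * R.el m := by group
  · intro h
    refine R.faith _ fun m => R.inj ?_
    rw [R.smul, ← mem_centralizer_iff.1 h _ (R.mem m), mul_inv_cancel_right]

theorem card_ag {B : Subgroup G} (hB : B ≤ V) : Nat.card (R.ag B) = Nat.card B := by
  refine Nat.card_congr (Equiv.ofBijective (fun m : R.ag B => (⟨R.el m, m.2⟩ : B)) ⟨?_, ?_⟩)
  · intro a b hab
    exact Subtype.ext (R.inj (congrArg Subtype.val hab))
  · rintro ⟨x, hx⟩
    obtain ⟨m, rfl⟩ := R.surj x (hB hx)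
    exact ⟨⟨m, hx⟩, rfl⟩

include R in
theorem card_M : Nat.card M = Nat.card V := by
  refine Nat.card_congr (Equiv.ofBijective (fun m : M => (⟨R.el m, R.mem m⟩ : V)) ⟨?_, ?_⟩)
  · intro a b hab
    exact R.inj (congrArg Subtype.val hab)
  · rintro ⟨x, hx⟩
    obtain ⟨m, rfl⟩ := R.surj x hx
    exact ⟨m, rfl⟩

end

end RepM

section exist

variable {G : Type u} [Group G] [Finite G] {S : Sylow 2 G} {P V : Subgroup G}

/-- The module. -/
theorem Cfg.exists_repM (h : Cfg S P) (hVP : zl (S : Subgroup G) P ≤ V) (hN : P ≤ normalizer (V : Set G))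
    (hc : ∀ v ∈ V, ∀ w ∈ V, v * w = w * v) (hsq : ∀ v ∈ V, v * v = 1) :
    ∃ (Y M : Type u) (_ : Group Y) (_ : Finite Y) (_ : AddCommGroup M) (_ : Finite M)
      (_ : DistribMulAction Y M) (T : Sylow 2 Y) (Mx : Subgroup Y),
      Nonempty (RepM (S : Subgroup G) P V Y M T Mx) := by
  have : Fact (Nat.Prime 2) := ⟨Nat.prime_two⟩
  have hc' : ∀ v w : V, v * w = w * v := fun v w => Subtype.ext (hc v v.2 w w.2)
  obtain ⟨M₀, hM₀, hM₁⟩ := h.par.toIsMinPar.exists_max
  -- the Sylow subgroup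
  let T₀ : Sylow 2 P := S.subtype h.S_le
  let T : Sylow 2 (XX hN) := T₀.mapSurjective (FFBr.pr_surjective hN)
  have hT : ∀ y, y ∈ T ↔ ∃ t : P, (t : G) ∈ (S : Subgroup G) ∧ pr hN t = y := by
    intro y
    change y ∈ ((T₀.mapSurjective (FFBr.pr_surjective hN) : Sylow 2 (XX hN)) : Subgroup (XX hN)) ↔ _
    rw [Sylow.coe_mapSurjective]
    rfl
  have hSM : (S : Subgroup G) ≤ M₀ := by
    have h1 := hM₁ (S : Subgroup G) le_rfl
    refine h1 (lt_of_le_of_ne h.S_le fun h2 => ?_)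
    exact h.par.toIsMinPar.ne h2
  -- `C_P(V) ≤ M₀`
  have hCM : P ⊓ centralizer (V : Set G) ≤ M₀ := by
    have hc2 : ¬ P ≤ centralizer (zl (S : Subgroup G) P : Set G) := by
      intro h1
      exact h.one.star.not_zc ((h1.trans (centralizer_le h.Z_le_V)).trans (centralizer_le_normalizer _))
    have h1 := FFBr.sup_ne hc2
    have h2 : (S : Subgroup G) ⊔ (P ⊓ centralizer (zl (S : Subgroup G) P : Set G)) ≤ M₀ := by
      refine hM₁ _ le_sup_left (lt_of_le_of_ne (sup_le h.S_le inf_le_left) fun h2 => h1 ?_)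
      have e1 : ((S : Subgroup G) ⊔ (P ⊓ centralizer (zl (S : Subgroup G) P : Set G))).subgroupOf P =
          (S : Subgroup G).subgroupOf P ⊔
            (P ⊓ centralizer (zl (S : Subgroup G) P : Set G)).subgroupOf P :=
        subgroupOf_sup h.S_le inf_le_left
      rw [h2, subgroupOf_self, inf_subgroupOf_left] at e1
      rw [sup_comm, ← e1]
    refine le_trans ?_ (le_sup_right.trans h2)
    exact inf_le_inf_left _ (centralizer_le hVP)
  refine ⟨XX hN, AV V hc', inferInstance, inferInstance, inferInstance,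
    inferInstanceAs (Finite V), inferInstance, T, (M₀.subgroupOf P).map (pr hN), ⟨?_⟩⟩
  exact
    { el := fun m => ((Additive.toMul m : V) : G)
      mem := fun m => (Additive.toMul m : V).2
      add := fun m n => rfl
      inj := fun a b hab => by
        have : (Additive.toMul a : V) = Additive.toMul b := Subtype.ext hab
        exact congrArg Additive.ofMul this
      surj := fun v hv => ⟨Additive.ofMul (⟨v, hv⟩ : V), rfl⟩
      ac := pr hN
      acs := FFBr.pr_surjective hN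
      smul := fun p m => rfl
      two := fun m => congrArg Additive.ofMul (Subtype.ext (hsq _ (Additive.toMul m : V).2))
      faith := fun y hy => by
        apply Subtype.ext
        ext v
        have h1 := hy (Additive.ofMul v)
        exact congrArg (fun m : AV V hc' => ((Additive.toMul m : V) : G)) h1
      mem_T := hT
      TM := by
        intro y hy
        obtain ⟨t, ht, rfl⟩ := (hT y).1 hy
        exact ⟨t, hSM ht, rfl⟩
      Mne := by
        intro h1
        apply hM₀.ne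
        apply le_antisymm hM₀.le
        intro p hp
        have h2 : pr hN ⟨p, hp⟩ ∈ (M₀.subgroupOf P).map (pr hN) := by rw [h1]; trivial
        obtain ⟨q, hq, hqp⟩ := h2
        have h3 : pr hN (q⁻¹ * ⟨p, hp⟩) = 1 := by rw [map_mul, map_inv, hqp, inv_mul_cancel]
        have h4 := (FFBr.pr_eq_one hN).1 h3
        have h5 : (q : G)⁻¹ * p ∈ M₀ := hCM ⟨P.mul_mem (P.inv_mem q.2) hp, h4⟩
        have h6 : (q : G) * ((q : G)⁻¹ * p) ∈ M₀ := M₀.mul_mem hq h5
        rwa [mul_inv_cancel_left] at h6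
      max := by
        intro K hK hK1
        have h1 : (S : Subgroup G) ≤ (K.comap (pr hN)).map P.subtype := by
          intro s hs
          exact ⟨⟨s, h.S_le hs⟩, hK ((hT _).2 ⟨⟨s, h.S_le hs⟩, hs, rfl⟩), rfl⟩
        have h2 : (K.comap (pr hN)).map P.subtype < P := by
          refine lt_of_le_of_ne (map_subtype_le _) fun h2 => hK1 ?_
          rw [eq_top_iff]
          intro y _
          obtain ⟨⟨p, hp⟩, rfl⟩ := FFBr.pr_surjective hN y
          have hp' := hp
          rw [← h2] at hp'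
          obtain ⟨q, hq, hqp⟩ := hp'
          have h3 : q = ⟨p, hp⟩ := Subtype.ext hqp
          rw [h3] at hq
          exact hq
        have h3 := hM₁ _ h1 h2
        intro y hy
        obtain ⟨p, rfl⟩ := FFBr.pr_surjective hN y
        exact ⟨p, h3 ⟨p, hy, rfl⟩, rfl⟩ }

end exist

end Cfsg.Agent.Omega.NO1

end

-- merged: Cfsg.Agent.Mrg.Omega.NO1.Alpha.Bridge
section

/-!
# THEOREM ALPHA (bb OMEGA #18722): the bridge from the frames `Fr S P M F` to `Cls`

`R : RepM S P V Y M T Mx`, `V = zl S M`.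

* `mem_of_hyp` : the image of `W_F` is a flat member if `N_F ≤ C(V)`;
* `NN_le_of_two` : `N_F ≤ C(V)` if `|V : E_F| = 2`;
* `mbs R W` : the conjugates of the image of `W`;
* `cls_of_hyp` : `Cls V |V : E_F| (mbs R W_F)` (SOC from `Hyp.qc`);
* `cls_two` : the same for `|V : E_F| = 2` without hypotheses;
* `card_of_F` : `|F| = 2` and `|V_P : V_P ∩ E_F| = 2` imply `|Z| = 2` and `|V_P : V_P ∩ O₂(C_G(Z))| = 2`.
-/

set_option autoImplicit false
set_option linter.unusedSectionVars false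

namespace Cfsg.Agent.Omega.NO1.Alpha

open Subgroup Cfsg Cfsg.Agent.ZN Cfsg.Agent.Omega.Frame
open Cfsg.Agent.Omega.NO1.HE (dl dl_apply dl_one dl_eq_zero dl_comm dl_mul dl_self smul_eq mem_conj)
open Cfsg.Agent.Omega.NOne.Flat (Hyp Bad WW NN)
open Cfsg.Agent.Omega.NOne.NearFF (c c_def)
open Cfsg.Agent.MinSimple.VModule (o2_isPGroup)
open Cfsg.Agent.Omega.FFThm (OffM ElemM)
open scoped Pointwise

universe u

/-! ### conjugates of members -/

section conj

variable {Y : Type u} [Group Y] {V : Type u} [AddCommGroup V] [DistribMulAction Y V]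

theorem index_EX (B : Subgroup Y) (g : Y) : (EX V (MulAut.conj g • B)).index = (EX V B).index := by
  have h1 : EX V (MulAut.conj g • B) = (EX V B).map (DistribMulAction.toAddEquiv V g : V →+ V) := by
    ext w
    rw [AddSubgroup.mem_map]
    constructor
    · intro hw
      refine ⟨g⁻¹ • w, ?_, smul_inv_smul g w⟩
      rw [← smul_mem_EX (g := g), smul_inv_smul]
      exact hw
    · rintro ⟨v, hv, rfl⟩
      exact smul_mem_EX.2 hv
  rw [h1]
  exact AddSubgroup.index_map_equiv (EX V B) (DistribMulAction.toAddEquiv V g)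

theorem mem_conj' {B : Subgroup Y} {g y : Y} : y ∈ MulAut.conj g • B ↔ ∃ b ∈ B, y = g * b * g⁻¹ := by
  rw [mem_conj]
  constructor
  · intro h
    exact ⟨_, h, by group⟩
  · rintro ⟨b, hb, rfl⟩
    have e : g⁻¹ * (g * b * g⁻¹) * g = b := by group
    rwa [e]

theorem Mem.smul {q : ℕ} {B : Subgroup Y} (h : Mem V q B) (g : Y) : Mem V q (MulAut.conj g • B) where
  comm := by
    intro b hb c hc
    obtain ⟨b, hb', rfl⟩ := mem_conj'.1 hb
    obtain ⟨c, hc', rfl⟩ := mem_conj'.1 hc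
    calc g * b * g⁻¹ * (g * c * g⁻¹) = g * (b * c) * g⁻¹ := by group
      _ = g * (c * b) * g⁻¹ := by rw [h.comm b hb' c hc']
      _ = _ := by group
  sq := by
    intro b hb
    obtain ⟨b, hb', rfl⟩ := mem_conj'.1 hb
    calc g * b * g⁻¹ * (g * b * g⁻¹) = g * (b * b) * g⁻¹ := by group
      _ = 1 := by rw [h.sq b hb']; group
  VB := by
    intro b hb v
    obtain ⟨b, hb', rfl⟩ := mem_conj'.1 hb
    have e : dl (g * b * g⁻¹) v = g • dl b (g⁻¹ • v) := by rw [← dl_conj, smul_inv_smul]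
    rw [e, smul_mem_EX]
    exact h.VB b hb' _
  inj := by
    intro w hw b hb hd
    obtain ⟨b, hb', rfl⟩ := mem_conj'.1 hb
    have e : dl (g * b * g⁻¹) w = g • dl b (g⁻¹ • w) := by rw [← dl_conj, smul_inv_smul]
    rw [e, smul_mem_FX] at hd
    have hw' : g⁻¹ • w ∉ EX V B := fun h1 => hw (by
      have := smul_mem_EX (g := g).2 h1
      rwa [smul_inv_smul] at this)
    rw [h.inj _ hw' b hb' hd]
    group
  surj := by
    intro w hw e he
    have hw' : g⁻¹ • w ∉ EX V B := fun h1 => hw (by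
      have := smul_mem_EX (g := g).2 h1
      rwa [smul_inv_smul] at this)
    have he' : g⁻¹ • e ∈ EX V B := by
      rw [← smul_mem_EX (g := g), smul_inv_smul]
      exact he
    obtain ⟨b, hb, h1⟩ := h.surj _ hw' _ he'
    refine ⟨g * b * g⁻¹, mem_conj'.2 ⟨b, hb, rfl⟩, ?_⟩
    have e1 : dl (g * b * g⁻¹) w + e = g • (dl b (g⁻¹ • w) + g⁻¹ • e) := by
      rw [smul_add, smul_inv_smul, ← dl_conj, smul_inv_smul]
    rw [e1, smul_mem_FX]
    exact h1
  ind := by rw [index_EX, h.ind]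
  ne := by
    obtain ⟨v, hv⟩ := h.ne
    exact ⟨g • v, fun h1 => hv (smul_mem_EX.1 h1)⟩
  ne' := by
    obtain ⟨e, he, hf⟩ := h.ne'
    exact ⟨g • e, smul_mem_EX.2 he, fun h1 => hf (smul_mem_FX.1 h1)⟩

end conj

/-! ### `N_F ≤ C(V)` for `|V : E_F| = 2` -/

section two

variable {G : Type u} [Group G] [Finite G] {V F : Subgroup G}

theorem NN_le_of_two (H : Hyp V F) (h2 : (NOne.Flat.EE V F).relIndex V = 2)
    (hoff : ∀ A : Subgroup G, A ≤ normalizer (V : Set G) → ¬ OffM V A) :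
    NN V F ≤ centralizer (V : Set G) := by
  intro n hn
  by_contra hne
  have hFC : F ≤ centralizer (V : Set G) := H.F_le_V.trans H.comm
  have hnW : n ∈ WW V F := hn.1
  refine hoff (zpowers n) ((zpowers_le.2 (H.W_norm_V hnW))) ?_
  have hpow : ∀ a ∈ zpowers n, a ^ 2 ∈ centralizer (V : Set G) := by
    rintro _ ⟨k, rfl⟩
    have h1 : n * n ∈ F := H.sq_W hnW
    have h2 : (n * n) ^ k ∈ centralizer (V : Set G) := (centralizer (V : Set G)).zpow_mem (hFC h1) k
    have e : (n ^ k) ^ 2 = (n * n) ^ k := by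
      rw [← pow_two, ← zpow_natCast, ← zpow_natCast, ← zpow_mul, ← zpow_mul, mul_comm]
    change (n ^ k) ^ 2 ∈ _
    rw [e]
    exact h2
  refine { sq := hpow, comm := ?_, ne := fun h1 => hne (h1 (mem_zpowers n)), le := ?_ }
  · intro a ha b hb
    have h1 : a * b = b * a := (zpowers_isMulCommutative n).is_comm.comm ⟨a, ha⟩ ⟨b, hb⟩ |> congrArg Subtype.val
    have e : a * b * a⁻¹ * b⁻¹ = 1 := by rw [h1]; group
    rw [e]
    exact one_mem _
  · have hE : NOne.Flat.EE V F ≤ V ⊓ centralizer ((zpowers n : Subgroup G) : Set G) := by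
      refine le_inf inf_le_left fun e he => ?_
      rw [NOne.Flat.Hyp.centralizer_zpowers', mem_centralizer_singleton_iff]
      exact (mem_centralizer_iff.1 hn.2 e he)
    have c1 : Nat.card V = Nat.card (NOne.Flat.EE V F) * 2 := by
      have := NOne.Flat.card_mul_relIndex' (inf_le_left : NOne.Flat.EE V F ≤ V)
      rw [h2] at this
      exact this.symm
    have c2 : Nat.card (NOne.Flat.EE V F) ≤ Nat.card ↥(V ⊓ centralizer ((zpowers n : Subgroup G) : Set G)) :=
      Nat.card_le_card_of_injective _ (Subgroup.inclusion_injective hE)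
    have c3 : 2 * Nat.card ↥(zpowers n ⊓ centralizer (V : Set G)) ≤ Nat.card (zpowers n) := by
      have h3 := NOne.Flat.card_mul_relIndex' (inf_le_left : zpowers n ⊓ centralizer (V : Set G) ≤ zpowers n)
      have h4 : (zpowers n ⊓ centralizer (V : Set G)).relIndex (zpowers n) ≠ 1 := by
        intro h5
        rw [relIndex_eq_one] at h5
        exact hne (h5 (mem_zpowers n)).2
      have h5 : (zpowers n ⊓ centralizer (V : Set G)).relIndex (zpowers n) ≠ 0 := index_ne_zero_of_finite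
      rw [← h3, mul_comm]
      exact Nat.mul_le_mul_left _ (by omega)
    calc Nat.card V * Nat.card ↥(zpowers n ⊓ centralizer (V : Set G))
        = Nat.card (NOne.Flat.EE V F) * (2 * Nat.card ↥(zpowers n ⊓ centralizer (V : Set G))) := by
          rw [c1]; ring
      _ ≤ Nat.card ↥(V ⊓ centralizer ((zpowers n : Subgroup G) : Set G)) * Nat.card (zpowers n) :=
          Nat.mul_le_mul c2 c3
      _ = _ := mul_comm _ _

end two

/-! ### the members -/

section members

variable {G : Type u} [Group G] [Finite G] {S P VV F : Subgroup G} {Y V : Type u} [Group Y] [AddCommGroup V]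
  [DistribMulAction Y V] {T : Sylow 2 Y} {Mx : Subgroup Y} (R : RepM S P VV Y V T Mx)

theorem el_dl {s : G} (hs : s ∈ P) (m : V) : R.el (dl (R.ac ⟨s, hs⟩) m) = c (R.el m) s := by
  rw [dl_apply, add_comm, R.add, R.smul, c_def]
  have h1 : (R.el m)⁻¹ = R.el m := R.el_inv m
  rw [h1]
  group

theorem ac_fix {s : G} (hs : s ∈ P) {m : V} : R.ac ⟨s, hs⟩ • m = m ↔ R.el m * s = s * R.el m := by
  constructor
  · intro h
    have h1 := R.smul ⟨s, hs⟩ m
    rw [h] at h1
    have h2 : R.el m = s * R.el m * s⁻¹ := h1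
    calc R.el m * s = (s * R.el m * s⁻¹) * s := by rw [← h2]
      _ = s * R.el m := by group
  · intro h
    apply R.inj
    rw [R.smul]
    change s * R.el m * s⁻¹ = R.el m
    rw [← h, mul_inv_cancel_right]

/-- The conjugates of the image of `W`. -/
def mbs (W : Subgroup G) : Set (Subgroup Y) := {B | ∃ y : Y, B = MulAut.conj y • R.im W}

theorem im_mem_mbs (W : Subgroup G) : R.im W ∈ mbs R W := ⟨1, by rw [map_one, one_smul]⟩

section hyp

variable (H : Hyp VV F) (hWP : WW VV F ≤ P)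
include H hWP

theorem FX_im : FX V (R.im (WW VV F)) = R.ag F := by
  ext m
  rw [R.mem_ag]
  constructor
  · intro hm
    rw [← H.cent_VW]
    refine ⟨R.mem m, mem_centralizer_iff.2 fun s hs => ?_⟩
    have h1 := hm _ (R.mem_im'.2 ⟨s, hWP hs, hs, rfl⟩)
    exact ((ac_fix R (hWP hs)).1 h1).symm
  · intro hm b hb
    obtain ⟨s, hs, hsW, rfl⟩ := R.mem_im'.1 hb
    rw [ac_fix R hs]
    rw [← H.cent_VW] at hm
    exact (mem_centralizer_iff.1 hm.2 s hsW).symm

theorem EX_im : EX V (R.im (WW VV F)) = R.ag (NOne.Flat.EE VV F) := by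
  ext m
  rw [R.mem_ag, mem_EX, FX_im R H hWP]
  constructor
  · intro hm
    by_contra hmE
    obtain ⟨e, he, heF⟩ := SetLike.not_le_iff_exists.1 H.F_lt_E.not_ge
    obtain ⟨s, hs, hse⟩ := H.surj (R.mem m) hmE he
    have h1 := hm _ (R.mem_im'.2 ⟨s, hWP hs, hs, rfl⟩)
    rw [R.mem_ag, el_dl] at h1
    apply heF
    have h2 := F.mul_mem (F.inv_mem hse) h1
    have e1 : (c (R.el m) s * e⁻¹)⁻¹ * c (R.el m) s = e := by group
    rwa [e1] at h2
  · intro hm b hb
    obtain ⟨s, hs, hsW, rfl⟩ := R.mem_im'.1 hb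
    rw [R.mem_ag, el_dl]
    exact H.comm_EW hm hsW

theorem index_ag : (R.ag (NOne.Flat.EE VV F)).index = (NOne.Flat.EE VV F).relIndex VV := by
  have := R.finite
  have h1 := (R.ag (NOne.Flat.EE VV F)).card_mul_index
  rw [R.card_M, R.card_ag inf_le_left, ← NOne.Flat.card_mul_relIndex' (inf_le_left : NOne.Flat.EE VV F ≤ VV)] at h1
  exact Nat.eq_of_mul_eq_mul_left Nat.card_pos h1

theorem im_comm {b b' : Y} (hb : b ∈ R.im (WW VV F)) (hb' : b' ∈ R.im (WW VV F)) : b * b' = b' * b := by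
  obtain ⟨s, hs, hsW, rfl⟩ := R.mem_im'.1 hb
  obtain ⟨t, ht, htW, rfl⟩ := R.mem_im'.1 hb'
  have h1 := H.comm_WW hsW htW
  have h2 : R.ac (⟨s, hs⟩ * ⟨t, ht⟩ * ⟨s, hs⟩⁻¹ * ⟨t, ht⟩⁻¹) = 1 := by
    rw [R.ac_eq_one]
    exact H.comm (H.F_le_V h1)
  rw [map_mul, map_mul, map_mul, map_inv, map_inv, mul_inv_eq_one, mul_inv_eq_iff_eq_mul] at h2
  exact h2

theorem im_sq {b : Y} (hb : b ∈ R.im (WW VV F)) : b * b = 1 := by
  obtain ⟨s, hs, hsW, rfl⟩ := R.mem_im'.1 hb
  rw [← map_mul, R.ac_eq_one]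
  exact H.comm (H.F_le_V (H.sq_W hsW))

/-- The image of `W_F` is a member. -/
theorem mem_of_hyp (hN : NN VV F ≤ centralizer (VV : Set G)) :
    Mem V ((NOne.Flat.EE VV F).relIndex VV) (R.im (WW VV F)) where
  comm b hb b' hb' := im_comm R H hWP hb hb'
  sq b hb := im_sq R H hWP hb
  VB := by
    intro b hb v
    obtain ⟨s, hs, hsW, rfl⟩ := R.mem_im'.1 hb
    rw [EX_im R H hWP, R.mem_ag, el_dl]
    exact H.c_memE (R.mem v) hsW
  inj := by
    intro w hw b hb hd
    obtain ⟨s, hs, hsW, rfl⟩ := R.mem_im'.1 hb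
    rw [EX_im R H hWP, R.mem_ag] at hw
    rw [FX_im R H hWP, R.mem_ag, el_dl] at hd
    rw [R.ac_eq_one]
    exact hN ((H.c_mem_F_iff (R.mem w) hw hsW).1 hd)
  surj := by
    intro w hw e he
    rw [EX_im R H hWP, R.mem_ag] at hw he
    obtain ⟨s, hs, hse⟩ := H.surj (R.mem w) hw he
    refine ⟨_, R.mem_im'.2 ⟨s, hWP hs, hs, rfl⟩, ?_⟩
    rw [FX_im R H hWP, R.mem_ag, R.add, el_dl]
    rwa [R.el_inv] at hse
  ind := by rw [EX_im R H hWP, index_ag R H hWP]
  ne := by
    obtain ⟨w, hw, hwE⟩ := H.exists_not_mem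
    obtain ⟨m, rfl⟩ := R.surj w hw
    refine ⟨m, ?_⟩
    rw [EX_im R H hWP]
    exact hwE
  ne' := by
    obtain ⟨e, he, heF⟩ := SetLike.not_le_iff_exists.1 H.F_lt_E.not_ge
    obtain ⟨m, rfl⟩ := R.surj e he.1
    refine ⟨m, ?_, ?_⟩
    · rw [EX_im R H hWP]; exact he
    · rw [FX_im R H hWP]; exact heF

/-- SOC for the image of `W_F`. -/
theorem soc_im (hc : ∀ u ∈ VV, u ≠ 1 →
      centralizer ({u} : Set G) ⊓ centralizer (o2 (centralizer ({u} : Set G)) : Set G) ≤
        o2 (centralizer ({u} : Set G)))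
    {K : Subgroup Y} (hK : R.im (WW VV F) ≤ K) {v : V} (hv : v ≠ 0) (hfix : ∀ k ∈ K, k • v = v) :
    R.im (WW VV F) ⊓ o2 K ≠ ⊥ := by
  set L : Subgroup G := (K.comap R.ac).map P.subtype with hL
  have hWL : WW VV F ≤ L := fun s hs => ⟨⟨s, hWP hs⟩, hK ⟨⟨s, hWP hs⟩, hs, rfl⟩, rfl⟩
  have hu1 : R.el v ≠ 1 := fun h1 => hv (R.el_eq_one.1 h1)
  have huL : R.el v ∈ centralizer (L : Set G) := by
    rw [mem_centralizer_iff]
    rintro _ ⟨p, hp, rfl⟩
    have h1 := (ac_fix R p.2).1 (hfix _ hp)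
    exact h1.symm
  obtain ⟨-, U, hU, -, hUL⟩ := H.qc hWL (R.mem v) hu1 huL (hc _ (R.mem v) hu1)
  have h1 : ¬ U ≤ centralizer (VV : Set G) := by
    intro h1
    obtain ⟨w, hw, hwE⟩ := H.exists_not_mem
    refine hwE (hU.cent_V ⟨hw, mem_centralizer_iff.2 fun s hs => ?_⟩)
    exact (mem_centralizer_iff.1 (h1 hs) w hw).symm
  obtain ⟨s, hs, hsV⟩ := SetLike.not_le_iff_exists.1 h1
  have hsW := hU.le_W hs
  intro h0
  have h2 : R.ac ⟨s, hWP hsW⟩ ∈ R.im (WW VV F) ⊓ o2 K := by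
    refine ⟨R.mem_im'.2 ⟨s, hWP hsW, hsW, rfl⟩, ?_⟩
    have h3 : R.im (o2 L) ≤ o2 K := by
      refine ZN.le_o2 ?_ (R.im_isPGroup (o2_isPGroup L)) ?_
      · intro y hy
        obtain ⟨p, hp, rfl⟩ := R.mem_im.1 hy
        obtain ⟨p', hp', hpp⟩ := ZN.o2_le L hp
        have e : p' = p := Subtype.ext hpp
        rw [← e]
        exact hp'
      · have key : ∀ k ∈ K, ∀ y ∈ R.im (o2 L), k * y * k⁻¹ ∈ R.im (o2 L) := by
          intro k hk y hy
          obtain ⟨p, rfl⟩ := R.acs k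
          obtain ⟨x, hx, rfl⟩ := R.mem_im.1 hy
          have hpL : (p : G) ∈ L := ⟨p, hk, rfl⟩
          refine R.mem_im.2 ⟨p * x * p⁻¹, ?_, by rw [map_mul, map_mul, map_inv]⟩
          exact (mem_normalizer_iff.1 (ZN.le_normalizer_o2 L hpL) x).1 hx
        intro k hk
        rw [mem_normalizer_iff]
        intro y
        refine ⟨key k hk y, fun h4 => ?_⟩
        have h5 := key k⁻¹ (K.inv_mem hk) _ h4
        have e : k⁻¹ * (k * y * k⁻¹) * k⁻¹⁻¹ = y := by group
        rwa [e] at h5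
    exact h3 (R.mem_im'.2 ⟨s, hWP hsW, hUL hs, rfl⟩)
  rw [h0, mem_bot, R.ac_eq_one] at h2
  exact hsV h2

/-- `F_q s_x` at the level of `G`. -/
def SC (VV F : Subgroup G) : Prop :=
  ∀ x ∈ NOne.Flat.EE VV F, x ∉ F → ∃ A : Subgroup G, A ≤ WW VV F ∧
    (centralizer (VV : Set G)).relIndex A = (NOne.Flat.EE VV F).relIndex VV ∧
    (∀ s ∈ A, s ∉ centralizer (VV : Set G) → ∃ w ∈ VV, w ∉ NOne.Flat.EE VV F ∧ c w s * x ∈ F) ∧
    ∀ s ∈ A, ∀ t ∈ A, ∀ v ∈ VV, c (c v t) s = 1

theorem sc_im (hsc : SC VV F) {x : V} (hx : x ∈ EX V (R.im (WW VV F))) (hxF : x ∉ FX V (R.im (WW VV F))) :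
    ∃ A : Subgroup Y, A ≤ R.im (WW VV F) ∧ Nat.card A = (NOne.Flat.EE VV F).relIndex VV ∧
      (∀ s ∈ A, s ≠ 1 → ∃ w, w ∉ EX V (R.im (WW VV F)) ∧ dl s w + x ∈ FX V (R.im (WW VV F))) ∧
      ∀ s ∈ A, ∀ t ∈ A, ∀ v : V, dl s (dl t v) = 0 := by
  rw [EX_im R H hWP, R.mem_ag] at hx
  rw [FX_im R H hWP, R.mem_ag] at hxF
  obtain ⟨A, hAW, hA1, hA2, hA3⟩ := hsc _ hx hxF
  refine ⟨R.im A, R.im_mono hAW, ?_, ?_, ?_⟩
  · rw [← hA1]
    have hAP : A ≤ P := hAW.trans hWP
    -- `|im A| = |A : C_A(V)|`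
    have h1 : Nat.card (R.im A) * Nat.card ((R.ac.comp (A.subgroupOf P).subtype).ker) = Nat.card A := by
      have h2 := Subgroup.card_mul_index (R.ac.comp (A.subgroupOf P).subtype).ker
      rw [Subgroup.index_ker] at h2
      have h3 : (R.ac.comp (A.subgroupOf P).subtype).range = R.im A := by
        ext y
        constructor
        · rintro ⟨a, rfl⟩
          exact ⟨a, a.2, rfl⟩
        · rintro ⟨a, ha, rfl⟩
          exact ⟨⟨a, ha⟩, rfl⟩
      rw [h3, Nat.card_congr (subgroupOfEquivOfLe hAP).toEquiv, mul_comm] at h2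
      exact h2
    have h2 : Nat.card ((R.ac.comp (A.subgroupOf P).subtype).ker) = Nat.card ↥(A ⊓ centralizer (VV : Set G)) := by
      refine Nat.card_congr (Equiv.ofBijective
        (fun a : (R.ac.comp (A.subgroupOf P).subtype).ker =>
          (⟨((a : A.subgroupOf P) : P), (a : A.subgroupOf P).2, R.ac_eq_one.1 a.2⟩ :
            ↥(A ⊓ centralizer (VV : Set G)))) ⟨?_, ?_⟩)
      · intro a b hab
        apply Subtype.ext
        apply Subtype.ext
        apply Subtype.ext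
        exact congrArg (fun z : ↥(A ⊓ centralizer (VV : Set G)) => (z : G)) hab
      · rintro ⟨a, haA, haC⟩
        exact ⟨⟨⟨⟨a, hAP haA⟩, haA⟩, R.ac_eq_one.2 haC⟩, rfl⟩
    have h3 := NOne.Flat.card_mul_relIndex' (inf_le_left : A ⊓ centralizer (VV : Set G) ≤ A)
    rw [inf_relIndex_left] at h3
    rw [h2, ← h3, mul_comm] at h1
    exact Nat.eq_of_mul_eq_mul_left Nat.card_pos h1
  · intro s hs hs1
    obtain ⟨s, hsP, hsA, rfl⟩ := R.mem_im'.1 hs
    obtain ⟨w, hw, hwE, hwx⟩ := hA2 s hsA fun h1 => hs1 (R.ac_eq_one.2 h1)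
    obtain ⟨m, rfl⟩ := R.surj w hw
    refine ⟨m, ?_, ?_⟩
    · rw [EX_im R H hWP]; exact hwE
    · rw [FX_im R H hWP, R.mem_ag, R.add, el_dl]; exact hwx
  · intro s hs t ht v
    obtain ⟨s, hsP, hsA, rfl⟩ := R.mem_im'.1 hs
    obtain ⟨t, htP, htA, rfl⟩ := R.mem_im'.1 ht
    apply R.inj
    rw [el_dl, el_dl, R.el_zero]
    exact hA3 s hsA t htA _ (R.mem v)

/-- **The class.** -/
theorem cls_of_hyp (hN : NN VV F ≤ centralizer (VV : Set G)) (hsc : SC VV F)
    (hc : ∀ u ∈ VV, u ≠ 1 →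
      centralizer ({u} : Set G) ⊓ centralizer (o2 (centralizer ({u} : Set G)) : Set G) ≤
        o2 (centralizer ({u} : Set G))) :
    Cls V ((NOne.Flat.EE VV F).relIndex VV) (mbs R (WW VV F)) where
  two := R.two
  faith := R.faith
  mem := by
    rintro _ ⟨y, rfl⟩
    exact (mem_of_hyp R H hWP hN).smul y
  conj := by
    rintro _ ⟨y, rfl⟩ g
    exact ⟨g * y, by rw [map_mul, mul_smul]⟩
  sc := by
    rintro _ ⟨y, rfl⟩ x hx hxF
    have hx' : y⁻¹ • x ∈ EX V (R.im (WW VV F)) := by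
      rw [← smul_mem_EX (g := y), smul_inv_smul]
      exact hx
    have hxF' : y⁻¹ • x ∉ FX V (R.im (WW VV F)) := by
      rw [← smul_mem_FX (g := y), smul_inv_smul]
      exact hxF
    obtain ⟨A, hA, hA1, hA2, hA3⟩ := sc_im R H hWP hsc hx' hxF'
    refine ⟨MulAut.conj y • A, ?_, ?_, ?_, ?_⟩
    · intro s hs
      obtain ⟨a, ha, rfl⟩ := mem_conj'.1 hs
      exact mem_conj'.2 ⟨a, hA ha, rfl⟩
    · rw [← hA1]
      exact Nat.card_congr (Subgroup.equivSMul (MulAut.conj y) A).toEquiv.symm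
    · intro s hs hs1
      obtain ⟨a, ha, rfl⟩ := mem_conj'.1 hs
      obtain ⟨w, hw, hwx⟩ := hA2 a ha (by
        rintro rfl
        exact hs1 (by group))
      refine ⟨y • w, fun h1 => hw (smul_mem_EX.1 h1), ?_⟩
      have e : dl (y * a * y⁻¹) (y • w) + x = y • (dl a w + y⁻¹ • x) := by
        rw [smul_add, smul_inv_smul, dl_conj]
      rw [e, smul_mem_FX]
      exact hwx
    · intro s hs t ht v
      obtain ⟨a, ha, rfl⟩ := mem_conj'.1 hs
      obtain ⟨b, hb, rfl⟩ := mem_conj'.1 ht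
      have e : dl (y * a * y⁻¹) (dl (y * b * y⁻¹) v) = y • dl a (dl b (y⁻¹ • v)) := by
        rw [← dl_conj, ← dl_conj, smul_inv_smul]
      rw [e, hA3 a ha b hb, smul_zero]
  soc := by
    rintro _ ⟨y, rfl⟩ K hK ⟨v, hv, hfix⟩
    have h1 : R.im (WW VV F) ≤ MulAut.conj y⁻¹ • K := by
      intro b hb
      rw [mem_conj, inv_inv]
      exact hK (mem_conj'.2 ⟨b, hb, rfl⟩)
    have h2 := soc_im R H hWP hc h1 (v := y⁻¹ • v) (fun h0 => hv (by
      rw [← smul_inv_smul y v, h0, smul_zero])) (fun k hk => by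
        rw [mem_conj, inv_inv] at hk
        have h3 := hfix _ hk
        rw [mul_smul, mul_smul, ← eq_inv_smul_iff] at h3
        exact h3)
    intro h0
    apply h2
    rw [eq_bot_iff]
    intro b hb
    have h3 : y * b * y⁻¹ ∈ MulAut.conj y • R.im (WW VV F) ⊓ o2 K := by
      refine ⟨mem_conj'.2 ⟨b, hb.1, rfl⟩, ?_⟩
      have h4 : MulAut.conj y • o2 (MulAut.conj y⁻¹ • K) = o2 K := by
        rw [NOne.Flat.o2_conj, ← mul_smul, ← map_mul, mul_inv_cancel, map_one, one_smul]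
      rw [← h4]
      exact mem_conj'.2 ⟨b, hb.2, rfl⟩
    rw [h0, mem_bot] at h3
    rw [mem_bot]
    have e : b = y⁻¹ * (y * b * y⁻¹) * y := by group
    rw [e, h3]
    group

omit hWP in
/-- `SC` for `|V : E_F| = 2` -/
theorem sc_two (h2 : (NOne.Flat.EE VV F).relIndex VV = 2) : SC VV F := by
  intro x hx hxF
  obtain ⟨w, hw, hwE⟩ := H.exists_not_mem
  obtain ⟨s, hs, hsx⟩ := H.surj hw hwE hx
  have hFC : F ≤ centralizer (VV : Set G) := H.F_le_V.trans H.comm
  have hsC : s ∉ centralizer (VV : Set G) := by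
    intro h1
    apply hxF
    have h3 : c w s = 1 := by
      rw [c_def, mem_centralizer_iff.1 h1 w hw]; group
    rw [h3, one_mul] at hsx
    have := F.inv_mem hsx
    rwa [inv_inv] at this
  have hmem : ∀ a ∈ zpowers s, a ∉ centralizer (VV : Set G) → ∃ f ∈ F, a = f * s := by
    rintro _ ⟨k, rfl⟩ hk
    have hss := H.sq_W hs
    rcases Int.even_or_odd' k with ⟨j, rfl | rfl⟩
    · exfalso
      apply hk
      have e : s ^ (2 * j) = (s * s) ^ j := by rw [zpow_mul, zpow_two]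
      change s ^ (2 * j) ∈ _
      rw [e]
      exact (centralizer (VV : Set G)).zpow_mem (hFC hss) j
    · refine ⟨(s * s) ^ j, F.zpow_mem hss j, ?_⟩
      change s ^ (2 * j + 1) = _
      rw [zpow_add, zpow_mul, zpow_two, zpow_one]
  refine ⟨zpowers s, zpowers_le.2 hs, ?_, ?_, ?_⟩
  · rw [h2]
    have h3 : ∀ a ∈ zpowers s, ∀ b ∈ zpowers s, a ∉ centralizer (VV : Set G) →
        b ∉ centralizer (VV : Set G) → a * b ∈ centralizer (VV : Set G) := by
      intro a ha b hb haC hbC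
      obtain ⟨f, hf, rfl⟩ := hmem a ha haC
      obtain ⟨f', hf', rfl⟩ := hmem b hb hbC
      have e : f * s * (f' * s) = f * (s * f' * s⁻¹) * (s * s) := by group
      have h4 : s * f' * s⁻¹ = f' := by
        rw [← NOne.Flat.Hyp.F_comm hf' (NOne.Flat.Hyp.W_le_X hs), mul_inv_cancel_right]
      rw [e, h4]
      exact mul_mem (mul_mem (hFC hf) (hFC hf')) (hFC (H.sq_W hs))
    rw [relIndex, Subgroup.index_eq_two_iff]
    refine ⟨⟨s, mem_zpowers s⟩, fun b => ?_⟩
    rw [mem_subgroupOf, mem_subgroupOf]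
    by_cases hb : (b : G) ∈ centralizer (VV : Set G)
    · refine Or.inr ⟨hb, fun h4 => hsC ?_⟩
      have h5 := mul_mem (inv_mem hb) h4
      have e : (b : G)⁻¹ * ((b * ⟨s, mem_zpowers s⟩ : zpowers s) : G) = s := by
        change (b : G)⁻¹ * (b * s) = s
        group
      rwa [e] at h5
    · exact Or.inl ⟨h3 _ b.2 _ (mem_zpowers s) hb hsC, hb⟩
  · intro a ha haC
    refine ⟨w, hw, hwE, ?_⟩
    obtain ⟨f, hf, rfl⟩ := hmem a ha haC
    rw [H.c_F_mul hw hs hf]
    have h3 := H.inv hx.1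
    rwa [h3] at hsx
  · intro a ha b hb v hv
    have haW : a ∈ WW VV F := zpowers_le.2 hs ha
    have hbW : b ∈ WW VV F := zpowers_le.2 hs hb
    have key : ∀ a ∈ zpowers s, ∀ e ∈ VV, c e s = 1 → c e a = 1 := by
      intro a ha e he h4
      by_cases haC : a ∈ centralizer (VV : Set G)
      · rw [c_def, mem_centralizer_iff.1 haC e he]; group
      · obtain ⟨f, hf, rfl⟩ := hmem a ha haC
        rw [H.c_F_mul he hs hf, h4]
    apply key a ha _ (H.c_memV hv hbW)
    by_cases hbC : b ∈ centralizer (VV : Set G)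
    · have h4 : c v b = 1 := by rw [c_def, mem_centralizer_iff.1 hbC v hv]; group
      rw [h4, c_def]; group
    · obtain ⟨f, hf, rfl⟩ := hmem b hb hbC
      rw [H.c_F_mul hv hs hf]
      exact H.beta_self hv hs

end hyp

end members

/-! ### frames -/

section frames

variable {G : Type u} [Group G] [Finite G] {S : Sylow 2 G} {P M F : Subgroup G} (h : Fr S P M F)
include h

theorem hc_elem : ∀ u ∈ zl (S : Subgroup G) M, u ≠ 1 →
    centralizer ({u} : Set G) ⊓ centralizer (o2 (centralizer ({u} : Set G)) : Set G) ≤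
      o2 (centralizer ({u} : Set G)) := by
  intro u hu hu1
  have h1 : IsPGroup 2 (zpowers u) := h.hyp.V_isPGroup.to_le (zpowers_le.2 hu)
  have h2 := NOne.LemmaT.char2_centralizer h.cfg.ctx.char2 h1 (by rwa [Ne, zpowers_eq_bot])
  rwa [NOne.Flat.Hyp.centralizer_zpowers'] at h2

theorem Z_le_F : zc (S : Subgroup G) ≤ F := by
  have h1 := h.hyp.cent_VW
  rw [← h1]
  refine le_inf ((h.cfg.Z_le_V).trans h.VP_le) ?_
  refine le_trans ?_ (centralizer_le h.W_le_S)
  intro z hz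
  rw [mem_centralizer_iff]
  intro s hs
  exact (ChoiceBase.mem_zc.1 hz).2.2 s hs

theorem exists_repM : ∃ (Y V : Type u) (_ : Group Y) (_ : Finite Y) (_ : AddCommGroup V) (_ : Finite V)
      (_ : DistribMulAction Y V) (T : Sylow 2 Y) (Mx : Subgroup Y),
      Nonempty (RepM (S : Subgroup G) P (zl (S : Subgroup G) M) Y V T Mx) :=
  h.cfg.exists_repM h.VP_le
    (h.inv.PM.trans (MinSimple.VModule.le_normalizer_zl _ _))
    (fun _ hv _ hw => h.hyp.V_comm hv hw) (fun _ hv => h.hyp.sq' hv)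

/-- The class for `|V : E_F| = 2`. -/
theorem cls_two {Y V : Type u} [Group Y] [AddCommGroup V] [DistribMulAction Y V] {T : Sylow 2 Y}
    {Mx : Subgroup Y} (R : RepM (S : Subgroup G) P (zl (S : Subgroup G) M) Y V T Mx)
    (h2 : (NOne.Flat.EE (zl (S : Subgroup G) M) F).relIndex (zl (S : Subgroup G) M) = 2) :
    Cls V 2 (mbs R (WW (zl (S : Subgroup G) M) F)) := by
  have hN := NN_le_of_two h.hyp h2 h.noffV
  have h1 := cls_of_hyp R h.hyp (h.W_le_S.trans h.cfg.S_le) hN (sc_two h.hyp h2) (hc_elem h)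
  rwa [h2] at h1

/-- The exit for `q = 2`. -/
theorem card_of_F (hF : Nat.card F = 2)
    (h2 : (NOne.Flat.EE (zl (S : Subgroup G) M) F).relIndex (zl (S : Subgroup G) P) = 2) :
    Nat.card (zc (S : Subgroup G)) = 2 ∧ (NO1.EE (S : Subgroup G) P).relIndex (zl (S : Subgroup G) P) = 2 := by
  have h1 : zc (S : Subgroup G) = F := by
    have hZ := Z_le_F h
    have h3 : Nat.card (zc (S : Subgroup G)) ≠ 1 := by
      intro h4
      exact MinSimple.Basic.zc_ne_bot S.isPGroup' (h.cfg.ctx.sylow_ne_bot S) (Subgroup.card_eq_one.1 h4)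
    refine Subgroup.eq_of_le_of_card_ge hZ ?_
    rw [hF]
    have : 0 < Nat.card (zc (S : Subgroup G)) := Nat.card_pos
    omega
  refine ⟨by rw [h1, hF], ?_⟩
  have h3 : (NO1.EE (S : Subgroup G) P) = zl (S : Subgroup G) P ⊓ NOne.Flat.EE (zl (S : Subgroup G) M) F := by
    unfold NO1.EE NOne.Flat.EE
    rw [← h1, ← inf_assoc, inf_eq_left.2 h.VP_le]
  rw [h3, inf_relIndex_left, h2]

end frames

end Cfsg.Agent.Omega.NO1.Alpha

end
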